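import Cfsg.Agent.H778.FR.Fin
import Cfsg.Agent.H659.FRAll
import Cfsg.Agent.H999.FR.JOne
import Cfsg.Agent.H999.FR.JTwo

/-!
# S4970 (FR-FIN, helper778): all rows
-/

set_option autoImplicit false

namespace Cfsg.Agent.H778.FRF

/-- **All rows of S4970.** -/
theorem allRows : Rows :=
  rows Cfsg.Agent.H659.FRAsm.hyp_all (fun h => Cfsg.Agent.H999.FR.JOne.fr_j1 h)
    (fun h => Cfsg.Agent.H999.FR.JTwo.fr_j2 h)

end Cfsg.Agent.H778.FRF
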