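import Cfsg.Agent.H778.FR.Univ
import Cfsg.Prelude.Def_Classification2

/-!
# S4970 (FR-FIN, helper778): the assembly with the rows as hypotheses

* `Rows` : the rows (in `Type`);
* `fr_known` : all non-abelian known simple groups have `FR`;
* `main` : the statement of `S4970` from the rows, the classification in `Type` and `S4971` (as hypotheses).
-/

set_option autoImplicit false

namespace Cfsg.Agent.H778.FRF

open Cfsg Cfsg.Agent.H955.FS Cfsg.Agent.H721.FR Cfsg.Agent.H721.SR

universe u

/-- the rows, in `Type` -/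
structure Rows : Prop where
  alt : ∀ {S : Type} [Group S] [Finite S], IsAlternating S → FR S
  psl : ∀ {S : Type} [Group S] [Finite S], IsPSL S → FR S
  psp : ∀ {S : Type} [Group S] [Finite S], IsPSp S → FR S
  psu : ∀ {S : Type} [Group S] [Finite S], IsPSU S → FR S
  oodd : ∀ {S : Type} [Group S] [Finite S], IsPOmegaOdd S → FR S
  oplus : ∀ {S : Type} [Group S] [Finite S], IsPOmegaPlus S → FR S
  ominus : ∀ {S : Type} [Group S] [Finite S], IsPOmegaMinus S → FR S
  g2 : ∀ {S : Type} [Group S] [Finite S], Lie.IsoChevG2 S → FR S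
  f4 : ∀ {S : Type} [Group S] [Finite S], Lie.IsoF4 S → FR S
  e6 : ∀ {S : Type} [Group S] [Finite S], Lie.IsoChevE6 S → FR S
  e7 : ∀ {S : Type} [Group S] [Finite S], Lie.IsoE7 S → FR S
  e8 : ∀ {S : Type} [Group S] [Finite S], Lie.IsoE8 S → FR S
  te6 : ∀ {S : Type} [Group S] [Finite S], Lie.Iso2E6 S → FR S
  td4 : ∀ {S : Type} [Group S] [Finite S], Lie.Iso3D4 S → FR S
  sz : ∀ {S : Type} [Group S] [Finite S], Lie.IsoSuzuki S → FR S
  ree : ∀ {S : Type} [Group S] [Finite S], Lie.IsoRee S → FR S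
  tf4 : ∀ {S : Type} [Group S] [Finite S], Lie.Iso2F4 S → FR S
  tits : ∀ {S : Type} [Group S] [Finite S], Lie.IsoTits S → FR S
  spor : ∀ {S : Type} [Group S] [Finite S], IsSporadicGroup S → FR S

theorem fr_known (R : Rows) {S : Type} [Group S] [Finite S] (hna : ¬ IsMulCommutative S) (h : IsKnownSimple' S) : FR S := by
  rcases h with h | h | h | h | h | h | h | h | h | h
  · exfalso
    have : Fact (Nat.card S).Prime := ⟨h⟩
    have : IsCyclic S := isCyclic_of_prime_card (p := Nat.card S) rfl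
    exact hna (IsCyclic.isMulCommutative (α := S))
  · exact R.alt h
  · exact R.psl h
  · exact R.psp h
  · exact R.psu h
  · exact R.oodd h
  · exact R.oplus h
  · exact R.ominus h
  · rcases h with h | h | h | h | h | h | h | h | h | h | h
    · exact R.g2 h
    · exact R.f4 h
    · exact R.e6 h
    · exact R.e7 h
    · exact R.e8 h
    · exact R.te6 h
    · exact R.td4 h
    · exact R.sz h
    · exact R.ree h
    · exact R.tf4 h
    · exact R.tits h
  · exact R.spor h

/-- a finite group is isomorphic to a group in `Type` -/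
theorem exists_zero (G : Type u) [Group G] [Finite G] : ∃ (H : Type) (_ : Group H), Nonempty (G ≃* H) := by
  obtain ⟨n, ⟨e⟩⟩ := Finite.exists_equiv_fin G
  have : Small.{0} G := ⟨⟨Fin n, ⟨e⟩⟩⟩
  exact ⟨Shrink.{0} G, inferInstance, ⟨(Shrink.mulEquiv (α := G)).symm⟩⟩

theorem fr_of_simple (R : Rows)
    (hK : ∀ (X : Type) [Group X] [Finite X] [IsSimpleGroup X], IsKnownSimple' X) {G : Type u} [Group G] [Finite G]
    (hS : IsSimpleGroup G) (hna : ¬ IsMulCommutative G) : FR G := by
  obtain ⟨H, _, ⟨e⟩⟩ := exists_zero G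
  have : Finite H := Finite.of_equiv G e.toEquiv
  have : IsSimpleGroup H := (MulEquiv.isSimpleGroup_congr e).1 hS
  refine fr_congr e.symm (fr_known R (fun hc => hna ⟨⟨fun a b => e.injective ?_⟩⟩) (hK H))
  rw [map_mul, map_mul]
  exact hc.is_comm.comm _ _

/-- **S4970** from the rows, the classification and S4971 -/
theorem main (R : Rows)
    (hK : ∀ (X : Type) [Group X] [Finite X] [IsSimpleGroup X], IsKnownSimple' X) {G : Type u} [Group G] [Finite G]
    (hS : IsSimpleGroup G) (hna : ¬ IsMulCommutative G)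
    (h71 : (∀ g : G, IsConj g g⁻¹) → ∀ g : G, ∃ s t : G, s * s = 1 ∧ t * t = 1 ∧ g = s * t) :
    (∀ χ : Cfsg.IrrCharacter G, (Nat.card G : ℂ)⁻¹ * ∑ᶠ s : G, (χ : G → ℂ) (s * s) = 1) ↔
      (∀ g : G, ∃ s t : G, s * s = 1 ∧ t * t = 1 ∧ g = s * t) := by
  constructor
  · intro h
    have hg : FSGood False G := fun χ hχ => Or.inl (h ⟨χ, hχ⟩)
    exact h71 hg.isConj_inv
  · intro h χ
    have hr : ∀ g : G, IsConj g g⁻¹ := by
      intro g
      obtain ⟨s, t, hs, ht, rfl⟩ := h g
      exact (sr_of_mul hs ht).real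
    rcases fr_of_simple R hK hS hna hr χ.1 χ.2 with h1 | h1
    · exact h1
    · exact h1.1.elim

end Cfsg.Agent.H778.FRF
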