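import Cfsg.Agent.H778.FR.Univ
import Cfsg.Agent.H291.SR.Mathieu
import Cfsg.Agent.H291.SR.Suz
import Cfsg.Agent.H306.SR.Hs
import Cfsg.Agent.H220.SR.Conway
import Cfsg.Agent.H973.SR.LyTh
import Cfsg.Agent.H560.SRHN
import Cfsg.Agent.H560.SRON
import Cfsg.Agent.H29.RuR
import Cfsg.Agent.H559.SR.Fi
import Cfsg.Agent.H32.SR.J4
import Cfsg.Agent.H291.SR.He
import Cfsg.Agent.H243.SRB
import Cfsg.Agent.H243.SRM
import Cfsg.Prelude.Def_Classification2

/-!
# S4970 (FR-FIN, helper778): the sporadic groups (J1, J2 as hypotheses)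
-/

set_option autoImplicit false

namespace Cfsg.Agent.H778.FRF

open Cfsg Cfsg.Agent.H955.FS Cfsg.Agent.H721.FR Cfsg.Agent.H721.SR

universe u

theorem fr_spor_of {S : Type u} [Group S] (j1 : Spor.IsoJ1 S → FR S) (j2 : Spor.IsoJ2 S → FR S)
    (h : IsSporadicGroup S) : FR S := by
  rcases h with h | h | h | h | h | h | h | h | h | h | h | h | h | h | h | h | h | h | h | h | h | h | h | h | h | h
  · exact .of_nrel (H291.SR.Mathieu.nrel_m11 h)
  · exact .of_nrel (H291.SR.Mathieu.nrel_m12 h)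
  · exact .of_nrel (H291.SR.Mathieu.nrel_m22 h)
  · exact .of_nrel (H291.SR.Mathieu.nrel_m23 h)
  · exact .of_nrel (H291.SR.Mathieu.nrel_m24 h)
  · exact j1 h
  · exact j2 h
  · exact .of_nrel (H306.SR.nrel_j3 h)
  · exact .of_nrel (H32.SR.nrel_j4 h)
  · exact .of_nrel (H220.SR.Conway.nrel_co1 h)
  · exact .of_nrel (H220.SR.Conway.nrel_co2 h)
  · exact .of_nrel (H220.SR.Conway.nrel_co3 h)
  · exact .of_nrel (H306.SR.nrel_mcl h)
  · exact .of_nrel (H306.SR.nrel_hs h)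
  · exact .of_nrel (H291.SR.Suz.nrel_suz h)
  · exact .of_nrel (H291.SR.He.nrel_he h)
  · exact .of_nrel (H29.RuR.nrel_ru h)
  · exact .of_nrel (H560.SRON.nrel_on h)
  · exact .of_nrel (H973.SR.nrel_ly h)
  · exact .of_nrel (H559.SR.nrel_fi22 h)
  · exact .of_nrel (H559.SR.nrel_fi23 h)
  · exact .of_nrel (H559.SR.nrel_fi24 h)
  · exact .of_nrel (H560.SRHN.nrel_hn h)
  · exact .of_nrel (H973.SR.nrel_th h)
  · exact .of_nrel (H243.SRB.nrel_b h)
  · exact .of_nrel (H243.SRM.nrel_m h)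

end Cfsg.Agent.H778.FRF
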