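import Cfsg.Agent.H778.FR.Asm
import Cfsg.Agent.H778.FR.NRSpor
import Cfsg.Agent.H778.FR.NRLie
import Cfsg.Agent.H140.FR.Alt
import Cfsg.Agent.H237.FR.DetOne
import Cfsg.Agent.H825.FR.Even
import Cfsg.Agent.H659.FRAsm
import Cfsg.Agent.H839.FR.IndexTwo
import Cfsg.Agent.H721.SR.DecF
import Cfsg.Agent.H168.FRHex.Rows

/-!
# S4970 (FR-FIN, helper778): the rows from the induction statement `Hyp` and the rows `³D₄(q)`, `J₁`, `J₂`
-/

set_option autoImplicit false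

namespace Cfsg.Agent.H778.FRF

open Cfsg Cfsg.Lie Cfsg.Agent.H955.FS Cfsg.Agent.H721.FR Cfsg.Agent.H721.SR
open Cfsg.Agent.H237.FR

theorem idxTwo : IdxTwo.{0} := fun _ _ _ N h1 h2 h3 => Cfsg.Agent.H839.FR.index_two N h1 h2 h3

theorem charP_two {F : Type} [Field F] [Fintype F] (h : Even (Fintype.card F)) : CharP F 2 := by
  obtain ⟨p, hp⟩ := CharP.exists F
  obtain ⟨n, hpp, hc⟩ := FiniteField.card F p
  rw [hc] at h
  have h1 : 2 ∣ p := Nat.prime_two.dvd_of_dvd_pow h.two_dvd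
  have h2 : 2 = p := (Nat.prime_dvd_prime_iff_eq Nat.prime_two hpp).1 h1
  rw [h2]
  exact hp

theorem oGood (hyp : ∀ n : ℕ, Hyp.{0} n) : OGood := fun _ _ _ _ _ _ _ _ h2 hQ =>
  Cfsg.Agent.H659.FRAsm.fsGood_false_O hyp h2 hQ

theorem detOne : DetOne := detOne_of fun F _ _ _ h2 =>
  ⟨Cfsg.Agent.H721.SRDec.hypA F h2, Cfsg.Agent.H721.SRDec.hypE F h2, Cfsg.Agent.H382.SRJ.hypJT F h2,
    Cfsg.Agent.H382.SRJ.hypJU F h2⟩

/-- all rows -/
theorem rows (hyp : ∀ n : ℕ, Hyp.{0} n)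
    (j1 : ∀ {S : Type} [Group S] [Finite S], Spor.IsoJ1 S → FR S)
    (j2 : ∀ {S : Type} [Group S] [Finite S], Spor.IsoJ2 S → FR S) : Rows where
  alt h := Cfsg.Agent.H140.FR.fr_alt h
  psl h := Cfsg.Agent.H825.FR.fr_psl hyp h
  psp h := Cfsg.Agent.H825.FR.fr_psp hyp h
  psu h := fr_psu h
  oodd h := fr_oodd h idxTwo (oGood hyp)
  oplus h := fr_oplus h idxTwo (oGood hyp) detOne fun F _ _ n hn hF => by
    have := charP_two hF
    exact Cfsg.Agent.H825.FR.fr_plus_even (by omega) (even_two_mul n) (MulEquiv.refl _)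
  ominus h := fr_ominus h idxTwo (oGood hyp) detOne fun F _ _ n a b hn hF hab => by
    have := charP_two hF
    exact Cfsg.Agent.H825.FR.fr_minus_even (by omega) (even_two_mul n) hab (MulEquiv.refl _)
  g2 h := fr_g2 h
  f4 h := fr_f4 h
  e6 h := fr_e6 h
  e7 h := fr_e7 h
  e8 h := fr_e8 h
  te6 h := fr_2e6 h
  td4 h := Cfsg.Agent.H168.FRHex.Rows.fr_3d4 h
  sz h := fr_sz h
  ree h := fr_ree h
  tf4 h := fr_2f4 h
  tits h := fr_tits h
  spor h := fr_spor_of j1 j2 h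

end Cfsg.Agent.H778.FRF
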