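import Cfsg.Agent.H721.FR.Base

/-!
# S4970 (FR-FIN, helper778): `FR` does not depend on the universe
-/

set_option autoImplicit false

namespace Cfsg.Agent.H778.FRF

open Cfsg Cfsg.Agent.H955.FS Cfsg.Agent.H721.FR Cfsg.Agent.H721.SR

universe u v

theorem fsi_congr {G : Type u} {H : Type v} [Group G] [Group H] (e : G ≃* H) (χ : H → ℂ) :
    fsi (χ ∘ e) = fsi χ := by
  unfold fsi
  rw [Nat.card_congr e.toEquiv]
  congr 1
  rw [← finsum_comp_equiv e.toEquiv]
  refine finsum_congr fun s => ?_
  show χ (e (s * s)) = χ (e s * e s)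
  rw [map_mul]

theorem good_congr {G : Type u} {H : Type v} [Group G] [Group H] (e : G ≃* H) {w : Prop}
    (h : FSGood w G) : FSGood w H := by
  intro χ hχ
  have h1 := h (χ ∘ e) (Characters.Core.isIrr_comp e.toMonoidHom e.surjective hχ)
  rwa [fsi_congr] at h1

/-- `FR` is invariant under isomorphisms, any universes -/
theorem fr_congr {G : Type u} {H : Type v} [Group G] [Group H] (e : G ≃* H) (h : FR G) : FR H := by
  intro hr
  refine good_congr e (h fun g => ?_)
  obtain ⟨x, hx⟩ := isConj_iff.1 (hr (e g))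
  refine isConj_iff.2 ⟨e.symm x, e.injective ?_⟩
  simpa using hx

end Cfsg.Agent.H778.FRF
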